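import Cfsg.Agent.H462.RealJ.Crit
import Cfsg.Agent.H712.GmnJThree
import Cfsg.Agent.H337.JankoOfIso
import Cfsg.Agent.H859.BigNum
import Cfsg.Agent.H859.CentEleven

/-!
# Real elements of odd prime order in `J3` and `J4` (helper462)
-/

set_option autoImplicit false

namespace Cfsg.Agent.H462.RealJ

open Subgroup Cfsg.Agent.H702.RealB0 Cfsg.Agent.H706.RealB

/-! ### `J3` -/

section J3

open Cfsg Cfsg.Spor Cfsg.Agent.J3.Core Cfsg.Agent.J3.Tab Cfsg.Agent.J3.Mono Cfsg.Agent.J3.Elts Cfsg.Agent.J3.Nineteen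
open Cfsg.Agent.H711.Crit Cfsg.Agent.H712.Gmn Cfsg.Agent.H712.GmnJThree
open Matrix

variable {F : Type*} [Field F] {ω : F}

theorem real_three_J3 [Fintype F] (hF : Fintype.card F = 4) (H : Good ω) :
    ∃ x : J3 F ω, orderOf x = 3 ∧ IsConj x x⁻¹ := by
  have hp3 : Fact (Nat.Prime 3) := ⟨Nat.prime_three⟩
  have hfin : Finite (threeJ3 F ω) := inferInstance
  have hfin' : Finite (J3 F ω) := inferInstance
  obtain ⟨G⟩ := exists_gens hF H
  obtain ⟨s, hs⟩ := exists_scalar H G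
  set π : threeJ3 F ω →* J3 F ω := QuotientGroup.mk' (center (threeJ3 F ω)) with hπ
  have hker : π.ker = center (threeJ3 F ω) := QuotientGroup.ker_mk' _
  have ha : Mo ω (mat ω (G.a (1, 0))) 0 (fun z => z.1) := by
    have := mo_a (ω := ω) (1, 0)
    rw [← G.ha] at this
    simpa using this
  have hsm : Mo ω (mat ω s) 0 (fun _ => 1) := by rw [hs]; exact mo_scalar
  have hz3 : π (G.a (1, 0)) ^ 3 = 1 := by
    rw [← map_pow, ← map_one π]
    congr 1
    apply mat_injective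
    rw [map_one]
    refine Mo.eq (ω := ω) (W := 0) (f := fun _ => 0) ?_ mo_one
    intro w z
    rw [mo_pow_zero H ha 3 w z]
    have : ((3 : ℕ) : ZMod 3) * z.1 = 0 := by
      rw [show ((3 : ℕ) : ZMod 3) = 0 from rfl, zero_mul]
    simp only [this]
  have hz1 : π (G.a (1, 0)) ≠ 1 := by
    intro h
    rw [← MonoidHom.mem_ker, hker, center_eq hF H hs, ← mem_powers_iff_mem_zpowers] at h
    obtain ⟨n, hn⟩ := h
    have h1 := mo_pow_zero H hsm n
    rw [show s ^ n = G.a (1, 0) from hn] at h1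
    have h2 := (ha.unique H h1).2
    have h3 := congrFun h2 (0, 0)
    have h4 := congrFun h2 (1, 0)
    simp only [mul_one] at h3 h4
    rw [← h3] at h4
    exact one_ne_zero h4
  have ho : orderOf (π (G.a (1, 0))) = 3 := orderOf_eq_prime hz3 hz1
  have hb := G.hb m1 m1_ne
  have hbb : G.b m1 * G.b m1 = 1 := by
    apply mat_injective
    rw [map_mul, hb, b_sq, map_one]
  have hba : G.b m1 * G.a (1, 0) * G.b m1 * G.a (1, 0) = 1 := by
    apply mat_injective
    rw [map_mul, map_mul, map_mul, hb, map_one]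
    refine Mo.eq (ω := ω) (W := 0) (f := fun _ => 0) ?_ mo_one
    intro w z
    rw [((mo_b ha).mul H ha) w z]
    simp
  refine ⟨_, ho, isConj_iff.2 ⟨π (G.b m1), ?_⟩⟩
  rw [← map_inv, ← map_inv, ← map_mul, ← map_mul]
  congr 1
  rw [inv_eq_of_mul_eq_one_right hbb]
  exact eq_inv_of_mul_eq_one_left hba

theorem card_of_isoJ3 {X : Type*} [Group X] (h : IsoJ3 X) : Nat.card X = 50232960 := by
  obtain ⟨F, _, _, ω, hF, hω, ⟨e⟩⟩ := h
  rw [Nat.card_congr e.toEquiv]
  exact Cfsg.Agent.J3.Simple.card_J3 hF (good_of_card hF hω)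

theorem prime_cases_J3 {p : ℕ} (hp : p.Prime) (hd : p ∣ 50232960) :
    p = 2 ∨ p = 3 ∨ p = 5 ∨ p = 17 ∨ p = 19 := by
  have h1 : p ∣ 2 ^ 7 * (3 ^ 5 * (5 * (17 * 19))) := by
    rw [show 2 ^ 7 * (3 ^ 5 * (5 * (17 * 19))) = 50232960 by norm_num]
    exact hd
  rcases hp.dvd_mul.1 h1 with h2 | h2
  · exact Or.inl ((Nat.prime_dvd_prime_iff_eq hp Nat.prime_two).1 (hp.dvd_of_dvd_pow h2))
  rcases hp.dvd_mul.1 h2 with h3 | h3
  · exact Or.inr (Or.inl ((Nat.prime_dvd_prime_iff_eq hp Nat.prime_three).1 (hp.dvd_of_dvd_pow h3)))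
  rcases hp.dvd_mul.1 h3 with h4 | h4
  · exact Or.inr (Or.inr (Or.inl ((Nat.prime_dvd_prime_iff_eq hp Nat.prime_five).1 h4)))
  rcases hp.dvd_mul.1 h4 with h5 | h5
  · exact Or.inr (Or.inr (Or.inr (Or.inl ((Nat.prime_dvd_prime_iff_eq hp (by norm_num)).1 h5))))
  · exact Or.inr (Or.inr (Or.inr (Or.inr ((Nat.prime_dvd_prime_iff_eq hp (by norm_num)).1 h5))))

/-- the primes 3, 5, 17 are orders of real elements of `J3` -/
theorem real_J3 {X : Type*} [Group X] [Finite X] [IsSimpleGroup X] (h : IsoJ3 X) {p : ℕ} [hp : Fact p.Prime]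
    (hpc : p = 3 ∨ p = 5 ∨ p = 17) : ∃ x : X, orderOf x = p ∧ IsConj x x⁻¹ := by
  have hc := card_of_isoJ3 h
  rcases hpc with rfl | hpc
  · obtain ⟨F, _, _, ω, hF, hω, ⟨e⟩⟩ := h
    obtain ⟨x, hx, hr⟩ := real_three_J3 hF (good_of_card hF hω)
    exact ⟨e.symm x, by rw [MulEquiv.orderOf_eq, hx], map_isConj_inv e.symm.toMonoidHom hr⟩
  · refine real_fermat (nonab_of_card (by rw [hc]; norm_num)) ?_ ?_ (Or.inr hpc)
    · rw [hc]; rcases hpc with rfl | rfl <;> norm_num
    · rw [hc]; rcases hpc with rfl | rfl <;> norm_num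

end J3

/-! ### `J4` -/

section J4

open Cfsg.Agent.H859 

theorem real_three_of_type {G : Type*} [Group G] [Finite G] (h : Cfsg.IsOfJankoFourType G) :
    ∃ x : G, orderOf x = 3 ∧ IsConj x x⁻¹ := by
  have : Fact (Nat.Prime 3) := ⟨Nat.prime_three⟩
  obtain ⟨z, P, -, -, -, -, -, hP, -, hne, -⟩ := h
  obtain ⟨j, hj, hN⟩ := H858.NormC.exists_card_normalizer_prime Nat.prime_three hP
  refine real_of_even hP rfl hN ?_
  rcases (Nat.dvd_prime Nat.prime_two).1 hj with rfl | rfl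
  · exfalso
    rw [one_mul] at hN
    have h1 : centralizer (P : Set G) = normalizer (P : Set G) :=
      eq_of_le_of_card_ge (centralizer_le_normalizer (P : Set G)) hN.le
    exact hne (by rw [h1])
  · decide

theorem card_J4 : Nat.card Spor.J4 = 86775571046077562880 := Cfsg.Agent.S1703.result.2

theorem prime_cases_J4 {p : ℕ} (hp : p.Prime) (hd : p ∣ 86775571046077562880) :
    p = 2 ∨ p = 7 ∨ p = 3 ∨ p = 5 ∨ p = 11 ∨ p = 23 ∨ p = 29 ∨ p = 31 ∨ p = 37 ∨ p = 43 := by
  have h1 : p ∣ 2 ^ 21 * (3 ^ 3 * (11 ^ 3 * (5 * (7 * (23 * (29 * (31 * (37 * 43)))))))) := by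
    rw [show 2 ^ 21 * (3 ^ 3 * (11 ^ 3 * (5 * (7 * (23 * (29 * (31 * (37 * 43)))))))) = 86775571046077562880 by norm_num]
    exact hd
  have key : ∀ {q : ℕ}, q.Prime → p ∣ q → p = q := fun hq h => (Nat.prime_dvd_prime_iff_eq hp hq).1 h
  rcases hp.dvd_mul.1 h1 with h2 | h2
  · have := key Nat.prime_two (hp.dvd_of_dvd_pow h2); omega
  rcases hp.dvd_mul.1 h2 with h3 | h3
  · have := key Nat.prime_three (hp.dvd_of_dvd_pow h3); omega
  rcases hp.dvd_mul.1 h3 with h4 | h4
  · have := key (by norm_num) (hp.dvd_of_dvd_pow h4); omega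
  rcases hp.dvd_mul.1 h4 with h5 | h5
  · have := key (by norm_num) h5; omega
  rcases hp.dvd_mul.1 h5 with h6 | h6
  · have := key (by norm_num) h6; omega
  rcases hp.dvd_mul.1 h6 with h7 | h7
  · have := key (by norm_num) h7; omega
  rcases hp.dvd_mul.1 h7 with h8 | h8
  · have := key (by norm_num) h8; omega
  rcases hp.dvd_mul.1 h8 with h9 | h9
  · have := key (by norm_num) h9; omega
  rcases hp.dvd_mul.1 h9 with h10 | h10
  · have := key (by norm_num) h10; omega
  · have := key (by norm_num) h10; omega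

/-- the odd primes dividing `|J4|` other than 7 are orders of real elements -/
theorem real_J4 {p : ℕ} [hp : Fact p.Prime] (hp2 : p ≠ 2) (hp7 : p ≠ 7) (hd : p ∣ Nat.card Spor.J4) :
    ∃ x : Spor.J4, orderOf x = p ∧ IsConj x x⁻¹ := by
  have hs : IsSimpleGroup Spor.J4 := Cfsg.Agent.S1703.result.1
  have hfin : Finite Spor.J4 := Nat.finite_of_card_ne_zero (by rw [card_J4]; norm_num)
  have hd' : p ∣ 86775571046077562880 := card_J4 ▸ hd
  obtain ⟨P, hP⟩ := exists_sub hd
  rcases prime_cases_J4 hp.out hd' with h | h | h | h | h | h | h | h | h | h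
  · exact absurd h hp2
  · exact absurd h hp7
  · subst h
    exact real_three_of_type (H337.isOfJankoFourType_of_isoJ4 ⟨MulEquiv.refl _⟩)
  · subst h
    exact real_fermat (nonab_of_card (by rw [card_J4]; norm_num)) hd (by rw [card_J4]; norm_num)
      (Or.inr (Or.inl rfl))
  · subst h
    obtain ⟨x, hx, hr⟩ := real_of_even (G := M24) (p := 11) M24Eleven.card_F (j := 10) (c := 11)
      (by rw [M24Eleven.centralizer_F]; exact M24Eleven.card_centralizer_f) M24Eleven.card_normalizer_F (by decide)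
    exact ⟨Cfsg.Agent.J4.Pres.phi x, by rw [orderOf_injective _ Cfsg.Agent.H858.VK.phi_injective, hx],
      map_isConj_inv _ hr⟩
  · subst h
    obtain ⟨h1, h2⟩ := BigNum.data23 hP
    exact real_of_even hP (j := 22) h1 (by rw [h2]) (by decide)
  · subst h
    obtain ⟨h1, h2⟩ := BigNum.data29' hP
    exact real_of_even hP (j := 28) h1 (by rw [h2]) (by decide)
  · subst h
    obtain ⟨h1, h2⟩ := BigNum.data31 hP
    exact real_of_even hP (j := 10) h1 (by rw [h2]) (by decide)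
  · subst h
    obtain ⟨h1, h2⟩ := BigNum.data37 hP
    exact real_of_even hP (j := 12) h1 (by rw [h2]) (by decide)
  · subst h
    obtain ⟨h1, h2⟩ := BigNum.data43 hP
    exact real_of_even hP (j := 14) h1 (by rw [h2]) (by decide)

end J4

end Cfsg.Agent.H462.RealJ
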