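import Cfsg.Agent.H462.RealJ.Crit
import Cfsg.Agent.H413.JOneSpec
import Cfsg.Agent.KFacts.J2.Basic
import Cfsg.Agent.J2Type.FiveFus
import Cfsg.Agent.J2Type.ThreeF

/-!
# Real elements of odd prime order in `J1` and `J2` (helper462)
-/

set_option autoImplicit false

namespace Cfsg.Agent.H462.RealJ

open Subgroup Cfsg.Agent.H702.RealB0 Cfsg.Agent.H706.RealB

/-! ### `J1` -/

section J1

open Cfsg.Agent.H413.JOneSpec Cfsg.Agent.SporRec.J1.Defs

variable {K : Type*} [Group K] [Finite K] [IsSimpleGroup K]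

theorem cent_prime (h : Local K) (hc : Nat.card K = 175560) {p : ℕ} (hp : p.Prime) (hb : Big p) {P : Subgroup K}
    (hP : Nat.card P = p) {m : ℕ} (hm : Nat.card (centralizer (P : Set K)) = p * m) : m = 1 := by
  have hpf : Fact p.Prime := ⟨hp⟩
  obtain ⟨x, hx⟩ := exists_prime_orderOf_dvd_card' (G := P) p (by rw [hP])
  have hx' : orderOf (x : K) = p := by rw [Subgroup.orderOf_coe, hx]
  have hz : P = zpowers (x : K) := by
    symm
    exact eq_of_le_of_card_ge (zpowers_le.2 x.2) (by rw [Nat.card_zpowers, hx', hP])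
  rw [hz, H858.NormC.centralizer_zpowers] at hm
  have h1 := cent_big h hc (x := (x : K)) (by rw [hx']; exact hb)
  rw [hm] at h1
  by_contra hm1
  obtain ⟨q, hq, hqm⟩ := Nat.exists_prime_and_dvd hm1
  have hqf : Fact q.Prime := ⟨hq⟩
  have h2 : q ∣ 1463 := (hqm.trans (dvd_mul_left m p)).trans h1
  have h3 : q = 7 ∨ q = 11 ∨ q = 19 := by
    rw [show 1463 = 7 * (11 * 19) by norm_num] at h2
    rcases hq.dvd_mul.1 h2 with h3 | h3
    · exact Or.inl ((Nat.prime_dvd_prime_iff_eq hq (by norm_num)).1 h3)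
    · rcases hq.dvd_mul.1 h3 with h3 | h3
      · exact Or.inr (Or.inl ((Nat.prime_dvd_prime_iff_eq hq (by norm_num)).1 h3))
      · exact Or.inr (Or.inr ((Nat.prime_dvd_prime_iff_eq hq (by norm_num)).1 h3))
  have h4 : q ≠ p := by
    rintro rfl
    have h5 : q * q ∣ 1463 := (mul_dvd_mul_left q hqm).trans h1
    rcases h3 with h3 | h3 | h3 <;> rw [h3] at h5 <;> norm_num at h5
  obtain ⟨y, hy⟩ := exists_prime_orderOf_dvd_card' (G := centralizer ({(x : K)} : Set K)) q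
    (by rw [hm]; exact hqm.trans (dvd_mul_left m p))
  have hy' : orderOf (y : K) = q := by rw [Subgroup.orderOf_coe, hy]
  exact big_false h hc (x := (x : K)) (y := (y : K)) (by rw [hx']; exact hb) (by rw [hy']; exact h3)
    (by rw [hx', hy']; exact h4.symm) (mem_centralizer_singleton_iff.1 y.2).symm

theorem arith1 : (∀ j ∈ Nat.divisors 6, 175560 / (j * 7) % 7 = 1 → Even j) ∧
    (∀ j ∈ Nat.divisors 10, 175560 / (j * 11) % 11 = 1 → Even j) ∧
    (∀ j ∈ Nat.divisors 18, 175560 / (j * 19) % 19 = 1 → Even j) := by decide +kernel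

theorem prime_cases {p : ℕ} (hp : p.Prime) (hd : p ∣ 175560) :
    p = 2 ∨ p = 3 ∨ p = 5 ∨ p = 7 ∨ p = 11 ∨ p = 19 := by
  have h1 : p ∈ Nat.primeFactorsList 175560 := (Nat.mem_primeFactorsList (by norm_num)).2 ⟨hp, hd⟩
  have h2 : Nat.primeFactorsList 175560 = [2, 2, 2, 3, 5, 7, 11, 19] := by simp
  rw [h2] at h1
  simp only [List.mem_cons, List.not_mem_nil, or_false] at h1
  omega

/-- the odd primes dividing `|J1|` are orders of real elements -/
theorem real_J1 (h : Local K) (hc : Nat.card K = 175560) {p : ℕ} [hp : Fact p.Prime] (hp2 : p ≠ 2)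
    (hd : p ∣ Nat.card K) : ∃ x : K, orderOf x = p ∧ IsConj x x⁻¹ := by
  have hna : ¬ ∀ x y : K, x * y = y * x := nonab_of_card (by rw [hc]; norm_num)
  have hd' : p ∣ 175560 := hc ▸ hd
  have hpp : ¬ p * p ∣ Nat.card K := by
    rw [hc]
    rcases prime_cases hp.out hd' with rfl | rfl | rfl | rfl | rfl | rfl
    · exact absurd rfl hp2
    all_goals norm_num
  by_cases hb : Big p
  · obtain ⟨P, hP⟩ := exists_sub hd
    obtain ⟨j, i, m, h1, h2, h3, h4, h5⟩ := H859.PrimeSub.exists_data hP hpp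
    have hm := cent_prime h hc hp.out hb hP h3
    rw [hm, mul_one] at h3 h4 h5
    refine real_of_even hP h3 h4 ?_
    have h6 : 175560 / (j * p) = i := by
      rw [← hc, ← h5]
      refine Nat.mul_div_cancel_left _ (Nat.pos_of_ne_zero fun h0 => ?_)
      rw [h0, zero_mul, hc] at h5
      norm_num at h5
    have h7 : ∀ n, n ≠ 0 → p - 1 = n → j ∈ Nat.divisors n := by
      rintro n hn rfl
      exact Nat.mem_divisors.2 ⟨h1, hn⟩
    rcases hb with rfl | rfl | rfl
    · exact arith1.1 j (h7 6 (by norm_num) rfl) (by rw [h6, h2])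
    · exact arith1.2.1 j (h7 10 (by norm_num) rfl) (by rw [h6, h2])
    · exact arith1.2.2 j (h7 18 (by norm_num) rfl) (by rw [h6, h2])
  · refine real_fermat hna hd hpp ?_
    rcases prime_cases hp.out hd' with h8 | h8 | h8 | h8 | h8 | h8
    · exact absurd h8 hp2
    · exact Or.inl h8
    · exact Or.inr (Or.inl h8)
    · exact absurd (Or.inl h8) hb
    · exact absurd (Or.inr (Or.inl h8)) hb
    · exact absurd (Or.inr (Or.inr h8)) hb

/-- **the row `J1`** -/
theorem j1 {p : ℕ} [Fact p.Prime] (hp2 : p ≠ 2) {X : Type} [Group X] [Finite X] [IsSimpleGroup X]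
    (hd : p ∣ Nat.card X) (h : Spor.IsoJ1 X) : HasReal p X := by
  obtain ⟨e⟩ := h
  have hf : Finite Spor.J1 := Cfsg.Agent.H413.JOneLocal.fin_J1
  have hs : IsSimpleGroup Spor.J1 := Cfsg.Agent.SporadicB.J1.Main.isJ1.1
  obtain ⟨x, hx, hr⟩ := real_J1 (K := Spor.J1) Cfsg.Agent.H413.JOneLocal.isLocal
    Cfsg.Agent.H413.JOneLocal.card_J1 hp2 (by rw [← Nat.card_congr e.toEquiv]; exact hd)
  exact (hasReal_of_real hx hr).congr e.symm

end J1

/-! ### `J2` -/

section J2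

open Cfsg.Agent.J2Type.Base

variable {K : Type*} [Group K] [Finite K] {z u : K}

theorem exists_cent (h : Fus z u) {p : ℕ} [hp : Fact p.Prime] (hd : p ∣ 1920) :
    ∃ x : K, orderOf x = p ∧ x * z = z * x := by
  obtain ⟨x, hx⟩ := exists_prime_orderOf_dvd_card' (G := centralizer ({z} : Set K)) p (by rw [h.cardC]; exact hd)
  exact ⟨x, by rw [Subgroup.orderOf_coe, hx], mem_centralizer_singleton_iff.1 x.2⟩

theorem real_three (h : Fus z u) : ∃ x : K, orderOf x = 3 ∧ IsConj x x⁻¹ := by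
  have : Fact (Nat.Prime 3) := ⟨Nat.prime_three⟩
  obtain ⟨x, hx, hxz⟩ := exists_cent h (p := 3) (by norm_num)
  have h1 : x⁻¹ * z = z * x⁻¹ := (show Commute x z from hxz).inv_left
  obtain ⟨g, -, hg⟩ := h.conj3 x x⁻¹ hx (by rw [orderOf_inv, hx]) hxz h1
  exact ⟨x, hx, isConj_iff.2 ⟨g, hg⟩⟩

theorem real_five (h : Fus z u) : ∃ x : K, orderOf x = 5 ∧ IsConj x x⁻¹ := by
  have : Fact (Nat.Prime 5) := ⟨Nat.prime_five⟩
  obtain ⟨x, hx, hxz⟩ := exists_cent h (p := 5) (by norm_num)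
  exact ⟨x, hx, J2Type.FiveFus.real_of_comm h hx hxz⟩

theorem real_seven (h : Fus z u) : ∃ x : K, orderOf x = 7 ∧ IsConj x x⁻¹ := by
  have : Fact (Nat.Prime 7) := ⟨by norm_num⟩
  have hc : Nat.card K = 604800 := J2Type.Order.card_of_fus h
  obtain ⟨P, hP⟩ := exists_sub (G := K) (p := 7) (by rw [hc]; norm_num)
  have hpp : ¬ 7 * 7 ∣ Nat.card K := by rw [hc]; norm_num
  obtain ⟨h1, h2, -⟩ := J2Type.ThreeF.sylow_seven h
    ((H858.NormC.isPGroup_of_card hP).toSylow (H858.NormC.not_dvd_index hP hpp))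
  exact real_of_even hP (j := 6) (c := 7) ((congrArg (fun S : Subgroup K => Nat.card S) h1).trans hP) h2 (by decide)

theorem prime_cases' {p : ℕ} (hp : p.Prime) (hd : p ∣ 604800) : p = 2 ∨ p = 3 ∨ p = 5 ∨ p = 7 := by
  have h1 : p ∣ 2 ^ 7 * (3 ^ 3 * (5 ^ 2 * 7)) := by
    rw [show 2 ^ 7 * (3 ^ 3 * (5 ^ 2 * 7)) = 604800 by norm_num]
    exact hd
  rcases hp.dvd_mul.1 h1 with h2 | h2
  · exact Or.inl ((Nat.prime_dvd_prime_iff_eq hp Nat.prime_two).1 (hp.dvd_of_dvd_pow h2))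
  rcases hp.dvd_mul.1 h2 with h3 | h3
  · exact Or.inr (Or.inl ((Nat.prime_dvd_prime_iff_eq hp Nat.prime_three).1 (hp.dvd_of_dvd_pow h3)))
  rcases hp.dvd_mul.1 h3 with h4 | h4
  · exact Or.inr (Or.inr (Or.inl ((Nat.prime_dvd_prime_iff_eq hp Nat.prime_five).1 (hp.dvd_of_dvd_pow h4))))
  · exact Or.inr (Or.inr (Or.inr ((Nat.prime_dvd_prime_iff_eq hp (by norm_num)).1 h4)))

/-- the odd primes dividing `|J2|` are orders of real elements -/
theorem real_J2 (h : Fus z u) {p : ℕ} [hp : Fact p.Prime] (hp2 : p ≠ 2)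
    (hd : p ∣ Nat.card K) : ∃ x : K, orderOf x = p ∧ IsConj x x⁻¹ := by
  rw [J2Type.Order.card_of_fus h] at hd
  rcases prime_cases' hp.out hd with rfl | rfl | rfl | rfl
  · exact absurd rfl hp2
  · exact real_three h
  · exact real_five h
  · exact real_seven h

/-- **the row `J2`** -/
theorem j2 {p : ℕ} [Fact p.Prime] (hp2 : p ≠ 2) {X : Type} [Group X] [Finite X] [IsSimpleGroup X]
    (hd : p ∣ Nat.card X) (h : Spor.IsoJ2 X) : HasReal p X := by
  obtain ⟨e⟩ := h
  have hf : Finite Spor.J2 := Finite.of_equiv X e.toEquiv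
  obtain ⟨t, w, Q, v, ρ, D⟩ := KFacts.J2.Basic.exists_dat
  obtain ⟨x, hx, hr⟩ := real_J2 D.F hp2 (by rw [← Nat.card_congr e.toEquiv]; exact hd)
  exact (hasReal_of_real hx hr).congr e.symm

end J2

end Cfsg.Agent.H462.RealJ
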